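import Cfsg.Agent.Lib.RankThreeClass.Models
import Cfsg.Agent.Lib.RootSub.OddTransp
import Cfsg.Agent.Lib.RootSub.OddPartner.Final
import Cfsg.Agent.Lib.Invol.SECriterion.Final
import Cfsg.Agent.Lib.Coprime.Core

/-!
# Members whose products have order at most two or a fixed prime: lines

If two commuting members and their product are members then every member commuting with none of them
would give a section `L₂(q)`, `Sz(q)` or dihedral, which is impossible for a prime above three; so every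
member commutes with them.  The same holds modulo an involution centralising all of them.
-/

set_option autoImplicit false
set_option linter.style.haveILetI false

namespace CfsgLib.RankThreeClass

universe u

variable {G : Type u} [Group G]

/-- Involutions, closed under conjugation, with products commuting or of order `p`. -/
structure TwoP (D : Set G) (p : ℕ) : Prop where
  invol : ∀ d ∈ D, orderOf d = 2
  conj : ∀ g : G, ∀ d ∈ D, g * d * g⁻¹ ∈ D
  pair : ∀ a ∈ D, ∀ b ∈ D, Commute a b ∨ orderOf (a * b) = p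

theorem TwoP.mul_self {D : Set G} {p : ℕ} (h : TwoP D p) {d : G} (hd : d ∈ D) : d * d = 1 :=
  CfsgLib.Invol.invol_mul_self (h.invol d hd)

theorem TwoP.inv_eq {D : Set G} {p : ℕ} (h : TwoP D p) {d : G} (hd : d ∈ D) : d⁻¹ = d :=
  CfsgLib.Invol.invol_inv (h.invol d hd)

theorem TwoP.sq_one {D : Set G} {p : ℕ} (h : TwoP D p) {a b : G} (ha : a ∈ D) (hb : b ∈ D)
    (hc : Commute a b) : (a * b) ^ 2 = 1 := by
  rw [hc.mul_pow, pow_two, pow_two, h.mul_self ha, h.mul_self hb, one_mul]

variable {D : Set G} {p : ℕ}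

theorem TwoP.odd_or (hD : TwoP D p) (hodd : Odd p) {a b : G} (ha : a ∈ D) (hb : b ∈ D)
    (h : ¬ Commute a b) : Odd (orderOf (a * b)) :=
  ((hD.pair a ha b hb).resolve_left h).symm ▸ hodd

/-- They form odd transpositions of the group they generate. -/
theorem TwoP.isOdd (hD : TwoP D p) (hodd : Odd p) (hgen : Subgroup.closure D = ⊤) :
    Cfsg.IsOddTranspositionSet D := by
  have h4 : ∀ a ∈ D, ∀ b ∈ D, orderOf (a * b) ≠ 4 := by
    intro a ha b hb h
    rcases hD.pair a ha b hb with h1 | h1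
    · have := orderOf_dvd_of_pow_eq_one (hD.sq_one ha hb h1)
      rw [h] at this
      omega
    · obtain ⟨k, hk⟩ := hodd
      omega
  refine ⟨⟨hD.invol, hgen, fun d hd g => hD.conj g d hd, fun a ha b hb => ?_⟩, h4⟩
  rcases hD.pair a ha b hb with h1 | h1
  · exact Or.inl h1.eq
  · exact Or.inr (Or.inl (h1.symm ▸ hodd))

/-- **A line is centralised.** -/
theorem TwoP.line_commute [Finite G] (hD : TwoP D p) (hp : p.Prime) (hp3 : 3 < p) {a b z : G}
    (ha : a ∈ D) (hb : b ∈ D) (hab : Commute a b) (habD : a * b ∈ D) (hz : z ∈ D) :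
    Commute z a := by
  classical
  by_contra hza
  haveI : Fact p.Prime := ⟨hp⟩
  haveI : Fact (Nat.Prime 2) := ⟨Nat.prime_two⟩
  have hodd : Odd p := hp.odd_of_ne_two (by omega)
  -- the group generated by the members
  set H : Subgroup G := Subgroup.closure D
  let D0 : Set H := H.subtype ⁻¹' D
  have hD0 : TwoP D0 p := by
    refine ⟨fun d hd => ?_, fun g d hd => hD.conj g d hd, fun x hx y hy => ?_⟩
    · rw [← orderOf_injective H.subtype H.subtype_injective d]
      exact hD.invol _ hd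
    · rcases hD.pair _ hx _ hy with h | h
      · exact Or.inl (Subtype.ext h)
      · right
        rw [← orderOf_injective H.subtype H.subtype_injective (x * y)]
        exact h
  have hgen : Subgroup.closure D0 = ⊤ := Subgroup.closure_closure_coe_preimage
  have hO := hD0.isOdd hodd hgen
  obtain ⟨a', ha', rfl⟩ : ∃ x : H, x ∈ D0 ∧ (x : G) = a := ⟨⟨a, Subgroup.subset_closure ha⟩, ha, rfl⟩
  obtain ⟨b', hb', rfl⟩ : ∃ x : H, x ∈ D0 ∧ (x : G) = b := ⟨⟨b, Subgroup.subset_closure hb⟩, hb, rfl⟩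
  obtain ⟨z', hz', rfl⟩ : ∃ x : H, x ∈ D0 ∧ (x : G) = z := ⟨⟨z, Subgroup.subset_closure hz⟩, hz, rfl⟩
  have hnc : ¬ Commute a' z' := fun h => hza (Subtype.ext_iff.1 h.symm)
  have hab' : Commute a' b' := Subtype.ext hab
  have hab0 : a' * b' ∈ D0 := habD
  -- the two other members of the line have the same commuting members
  have hsame : ∀ e : H, e ∈ D0 → a' * e ∈ D0 → Commute a' e → e ∈ Cfsg.sameCommutingClass D0 a' := by
    intro e he hae hc
    refine ⟨he, Set.ext fun f => ⟨fun hf => ?_, fun hf => ?_⟩⟩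
    · refine ⟨hf.1, ?_⟩
      exact (CfsgLib.RootInvol.OddTr.commute_of_line hO ha' he hf.1 hae hc hf.2.symm).symm.eq
    · refine ⟨hf.1, ?_⟩
      exact (CfsgLib.RootInvol.OddTr.commute_of_line hO he ha' hf.1 (hc.eq ▸ hae) hc.symm hf.2.symm).symm.eq
  have haa : a' * (a' * b') = b' := by rw [← mul_assoc, hD0.mul_self ha', one_mul]
  have hA : a' ∈ Cfsg.sameCommutingClass D0 a' := ⟨ha', rfl⟩
  have hB : b' ∈ Cfsg.sameCommutingClass D0 a' := hsame b' hb' hab0 hab'
  have hC : a' * b' ∈ Cfsg.sameCommutingClass D0 a' :=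
    hsame _ hab0 (haa.symm ▸ hb') ((Commute.refl a').mul_right hab')
  have hne : z' ≠ a' := fun e => hnc (e ▸ Commute.refl a')
  have hxo : z' ∈ Cfsg.oddPartners D0 a' := ⟨hz', hne, hD0.odd_or hodd ha' hz' hnc⟩
  have hmain := CfsgLib.RootInvol.OddPartner.genGroup_quotient CfsgLib.SECrit.critThm hO ha' hxo
  set X : Subgroup H := Subgroup.closure (Cfsg.sameCommutingClass D0 a' ∪ {z'})
  have mem : ∀ e ∈ Cfsg.sameCommutingClass D0 a', e ∈ X := fun e he => Subgroup.subset_closure (Or.inl he)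
  haveI hK : (Cfsg.pCore 2 X).Normal := by
    haveI := CfsgLib.Coprime.pCore_characteristic (G := X) 2
    infer_instance
  let q : X →* X ⧸ Cfsg.pCore 2 X := QuotientGroup.mk' (Cfsg.pCore 2 X)
  -- a member of the line keeps an odd product with `z'` in the quotient
  have himg : ∀ e : X, (e : H) ∈ Cfsg.sameCommutingClass D0 a' →
      ∀ w : X, (w : H) = z' → orderOf (q e * q w) = p ∧ q e * q e = 1 := by
    intro e he w hw
    have hwz : ¬ Commute (e : H) z' := by
      intro hc
      have h1 : z' ∈ Cfsg.commutingMembers D0 (e : H) := ⟨hz', hc.symm.eq⟩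
      rw [← he.2] at h1
      exact hnc (Commute.symm h1.2)
    have ho : orderOf (e * w) = p := by
      rw [← orderOf_injective X.subtype X.subtype_injective, map_mul]
      show orderOf ((e : H) * (w : H)) = p
      rw [hw]
      exact (hD0.pair _ he.1 _ hz').resolve_left hwz
    refine ⟨?_, ?_⟩
    · rw [← map_mul]
      refine orderOf_eq_prime (by rw [← map_pow, ← ho, pow_orderOf_eq_one, map_one]) fun h1 => ?_
      have h2 : e * w ∈ Cfsg.pCore 2 X := (QuotientGroup.eq_one_iff _).1 h1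
      obtain ⟨k, hk⟩ := CfsgLib.Coprime.pCore_isPGroup 2 ⟨e * w, h2⟩
      have h3 : (e * w) ^ 2 ^ k = 1 := Subtype.ext_iff.1 hk
      have h4 := CfsgLib.Invol.eq_one_of_odd_of_pow_two (ho.symm ▸ hodd) h3
      rw [h4, orderOf_one] at ho
      omega
    · rw [← map_mul, show e * e = 1 from Subtype.ext (hD0.mul_self he.1), map_one]
  let A : X := ⟨a', mem _ hA⟩
  let B : X := ⟨b', mem _ hB⟩
  let Z : X := ⟨z', Subgroup.subset_closure (Or.inr rfl)⟩
  obtain ⟨oA, sA⟩ := himg A hA Z rfl
  obtain ⟨oB, sB⟩ := himg B hB Z rfl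
  obtain ⟨oC, sC⟩ := himg (A * B) hC Z rfl
  have sZ : q Z * q Z = 1 := by
    rw [← map_mul, show Z * Z = 1 from Subtype.ext (hD0.mul_self hz'), map_one]
  have hA2 : orderOf (q A) = 2 := by
    refine orderOf_eq_prime (by rw [pow_two, sA]) fun h1 => ?_
    rw [h1, one_mul] at oA
    have := orderOf_dvd_of_pow_eq_one (show q Z ^ 2 = 1 by rw [pow_two, sZ])
    rw [oA] at this
    have := Nat.le_of_dvd two_pos this
    omega
  have hno : BadPair (X ⧸ Cfsg.pCore 2 X) p → False := by
    rintro ⟨hc, U, V, hU, hV, h1, h2, h3⟩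
    obtain ⟨c, rfl⟩ := hc _ U hA2 hU
    obtain ⟨c', rfl⟩ := hc _ V hA2 hV
    obtain ⟨g, rfl⟩ := QuotientGroup.mk'_surjective _ c
    obtain ⟨g', rfl⟩ := QuotientGroup.mk'_surjective _ c'
    have hmap : (q g * q A * (q g)⁻¹) * (q g' * q A * (q g')⁻¹) =
        q ((g * A * g⁻¹) * (g' * A * g'⁻¹)) := by simp only [map_mul, map_inv]
    change orderOf ((q g * q A * (q g)⁻¹) * (q g' * q A * (q g')⁻¹)) ≠ 1 at h1
    change orderOf ((q g * q A * (q g)⁻¹) * (q g' * q A * (q g')⁻¹)) ≠ 2 at h2
    change orderOf ((q g * q A * (q g)⁻¹) * (q g' * q A * (q g')⁻¹)) ≠ p at h3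
    rw [hmap] at h1 h2 h3
    have hdvd := orderOf_map_dvd q ((g * A * g⁻¹) * (g' * A * g'⁻¹))
    rw [← orderOf_injective X.subtype X.subtype_injective ((g * A * g⁻¹) * (g' * A * g'⁻¹))] at hdvd
    simp only [map_mul, map_inv] at hdvd
    rcases hD0.pair _ (hD0.conj (g : H) _ ha') _ (hD0.conj (g' : H) _ ha') with h | h
    · have := hdvd.trans (orderOf_dvd_of_pow_eq_one
        (hD0.sq_one (hD0.conj (g : H) _ ha') (hD0.conj (g' : H) _ ha') h))
      rcases (Nat.dvd_prime Nat.prime_two).1 this with e | e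
      · exact h1 (by simpa [map_mul, map_inv] using e)
      · exact h2 (by simpa [map_mul, map_inv] using e)
    · have := hdvd.trans (dvd_of_eq h)
      rcases (Nat.dvd_prime hp).1 this with e | e
      · exact h1 (by simpa [map_mul, map_inv] using e)
      · exact h3 (by simpa [map_mul, map_inv] using e)
  rcases hmain with ⟨F, iF, iF', hF2, hF4, ⟨e⟩⟩ | hsz | ⟨n, ⟨e⟩⟩
  · exact hno (BadPair.of_equiv e (badPair_psl hp3))
  · exact hno (badPair_suzuki hsz hp3)
  · have ho : ∀ y : X ⧸ Cfsg.pCore 2 X, orderOf y = p → Odd (orderOf (e y)) ∧ e y ≠ 1 := by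
      intro y hy
      refine ⟨by rw [MulEquiv.orderOf_eq, hy]; exact hodd, fun h => ?_⟩
      rw [← MulEquiv.orderOf_eq e, h, orderOf_one] at hy
      omega
    have r1 := ho _ oA
    have r2 := ho _ oB
    have r3 := ho _ oC
    rw [map_mul] at r1 r2
    rw [map_mul q A B] at r3 sC
    rw [map_mul, map_mul] at r3
    refine dihedral_false (A := e (q A)) (B := e (q B)) (Z := e (q Z)) ?_ ?_ ?_ ?_ r1.1 r1.2 r2.1 r2.2 r3.1 r3.2
    · rw [← map_mul, sA, map_one]
    · rw [← map_mul, sB, map_one]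
    · rw [← map_mul e (q A), ← map_mul e, sC, map_one]
    · rw [← map_mul, sZ, map_one]

/-- **A line modulo a centralised involution is centralised.** -/
theorem TwoP.line_commute_mod [Finite G] (hD : TwoP D p) (hp : p.Prime) (hp3 : 3 < p) {a b c s z : G}
    (ha : a ∈ D) (hb : b ∈ D) (hc : c ∈ D) (hz : z ∈ D) (hs : s * s = 1)
    (has : a ≠ s) (hbs : b ≠ s) (hcs : c ≠ s) (hzs : z ≠ s)
    (ca : Commute a s) (cb : Commute b s) (cc : Commute c s) (cz : Commute z s)
    (hab : Commute a b) (habc : a * b = c * s) : Commute z a := by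
  classical
  set H : Subgroup G := Subgroup.centralizer {s} with hH
  have mem : ∀ x : G, Commute x s → x ∈ H := fun x hx =>
    Subgroup.mem_centralizer_singleton_iff.2 hx.symm.eq.symm
  have comm : ∀ x : H, Commute (x : G) s := fun x =>
    (Subgroup.mem_centralizer_singleton_iff.1 x.2 : _)
  let σ : H := ⟨s, mem s (Commute.refl s)⟩
  set N : Subgroup H := Subgroup.zpowers σ with hN
  have hσ : σ * σ = 1 := Subtype.ext hs
  have hNmem : ∀ x : H, x ∈ N → x = 1 ∨ x = σ := by
    rintro x ⟨k, rfl⟩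
    rcases Int.even_or_odd k with ⟨j, hj⟩ | ⟨j, hj⟩
    · left
      show σ ^ k = 1
      rw [hj, zpow_add, ← (Commute.refl σ).mul_zpow, hσ, one_zpow]
    · right
      show σ ^ k = σ
      rw [hj, zpow_add_one, two_mul, zpow_add, ← (Commute.refl σ).mul_zpow, hσ, one_zpow, one_mul]
  haveI : N.Normal := ⟨fun x hx g => by
    rcases hNmem x hx with rfl | rfl
    · simp
    · rw [show g * σ = σ * g from Subtype.ext (comm g).eq, mul_assoc, mul_inv_cancel, mul_one]
      exact Subgroup.mem_zpowers σ⟩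
  let q : H →* H ⧸ N := QuotientGroup.mk' N
  let E : Set (H ⧸ N) := q '' {d : H | (d : G) ∈ D ∧ (d : G) ≠ s}
  have hE : TwoP E p := by
    refine ⟨?_, ?_, ?_⟩
    · rintro _ ⟨d, ⟨hd, hds⟩, rfl⟩
      haveI : Fact (Nat.Prime 2) := ⟨Nat.prime_two⟩
      refine orderOf_eq_prime ?_ fun h => ?_
      · rw [← map_pow, show d ^ 2 = 1 from Subtype.ext (by
          rw [Subgroup.coe_pow, pow_two, hD.mul_self hd]; rfl), map_one]
      · rcases hNmem d ((QuotientGroup.eq_one_iff _).1 h) with e | e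
        · exact CfsgLib.Invol.invol_ne_one (hD.invol _ hd) (congrArg Subtype.val e)
        · exact hds (congrArg Subtype.val e)
    · intro g _ hd
      obtain ⟨d, ⟨hd, hds⟩, rfl⟩ := hd
      obtain ⟨k, rfl⟩ := QuotientGroup.mk'_surjective N g
      refine ⟨k * d * k⁻¹, ⟨hD.conj _ _ hd, fun e => hds ?_⟩, by simp [q, map_mul, map_inv]⟩
      have e1 : (k : G) * d * (k : G)⁻¹ = s := e
      calc (d : G) = (k : G)⁻¹ * ((k : G) * d * (k : G)⁻¹) * k := by group
        _ = (k : G)⁻¹ * s * k := by rw [e1]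
        _ = s := by rw [mul_assoc, ← (comm k).eq, inv_mul_cancel_left]
    · rintro _ ⟨x, ⟨hx, -⟩, rfl⟩ _ ⟨y, ⟨hy, -⟩, rfl⟩
      rcases hD.pair _ hx _ hy with h | h
      · exact Or.inl ((show Commute x y from Subtype.ext h).map q)
      · have hd := orderOf_map_dvd q (x * y)
        rw [← orderOf_injective H.subtype H.subtype_injective (x * y)] at hd
        have hd' : orderOf (q (x * y)) ∣ p := hd.trans (dvd_of_eq h)
        rcases (Nat.dvd_prime hp).1 hd' with e | e
        · left
          rw [orderOf_eq_one_iff, map_mul] at e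
          rw [eq_inv_of_mul_eq_one_left e]
          exact (Commute.refl _).inv_left
        · right; rwa [← map_mul]
  let a' : H := ⟨a, mem a ca⟩
  let b' : H := ⟨b, mem b cb⟩
  let c' : H := ⟨c, mem c cc⟩
  let z' : H := ⟨z, mem z cz⟩
  have hcq : q a' * q b' = q c' := by
    rw [← map_mul, show a' * b' = c' * σ from Subtype.ext habc, map_mul,
      show q σ = 1 from (QuotientGroup.eq_one_iff _).2 (Subgroup.mem_zpowers σ), mul_one]
  have key := hE.line_commute hp hp3 (a := q a') (b := q b') (z := q z')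
    ⟨a', ⟨ha, has⟩, rfl⟩ ⟨b', ⟨hb, hbs⟩, rfl⟩ ((show Commute a' b' from Subtype.ext hab).map q)
    (hcq ▸ ⟨c', ⟨hc, hcs⟩, rfl⟩) ⟨z', ⟨hz, hzs⟩, rfl⟩
  by_contra hza
  have ho : orderOf (z * a) = p := (hD.pair z hz a ha).resolve_left hza
  have h1 : q ((z' * a') ^ 2) = 1 := by
    rw [map_pow, map_mul, key.mul_pow, pow_two, pow_two]
    rw [hE.mul_self ⟨z', ⟨hz, hzs⟩, rfl⟩, hE.mul_self ⟨a', ⟨ha, has⟩, rfl⟩, one_mul]
  have h4 : (z * a) ^ 4 = 1 := by
    rcases hNmem _ ((QuotientGroup.eq_one_iff _).1 h1) with e | e <;>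
      · have e1 := congrArg Subtype.val e
        simp only [Subgroup.coe_pow, Subgroup.coe_mul, Subgroup.coe_one] at e1
        rw [show (4 : ℕ) = 2 * 2 from rfl, pow_mul, e1]
        first
          | exact one_pow 2
          | (rw [pow_two]; exact hs)
  have := Nat.le_of_dvd (by norm_num) (ho ▸ orderOf_dvd_of_pow_eq_one h4)
  interval_cases p
  exact absurd hp (by norm_num)

end CfsgLib.RankThreeClass
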