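import Cfsg.Agent.Lib.RankThreeClass.Shift
import Cfsg.Agent.Lib.Coprime.Core

/-!
# A generating class of involutions with products of order at most two or a prime above three

When the centraliser of a member is transitive on the members commuting with it, the group has a
nontrivial solvable normal subgroup.
-/

set_option autoImplicit false
set_option linter.style.haveILetI false

namespace CfsgLib.RankThreeClass

universe u

variable {G : Type u} [Group G] [Finite G] {D : Set G} {p : ℕ}

/-- Some two commuting members and a third commuting with neither. -/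
theorem exists_bad (hD : TwoP D p) (hgen : Subgroup.closure D = ⊤)
    (htrans : ∀ a ∈ D, ∀ b ∈ D, ∃ g : G, g * a * g⁻¹ = b)
    (hpair : ∃ x ∈ D, ∃ y ∈ D, x ≠ y ∧ Commute x y) :
    ∃ x ∈ D, ∃ y ∈ D, ∃ u ∈ D, x ≠ y ∧ Commute x y ∧ ¬ Commute x u ∧ ¬ Commute y u := by
  by_contra hcon
  push Not at hcon
  have edge : ∀ a ∈ D, ∀ b ∈ D, ∀ u ∈ D, a ≠ b → Commute a b → ¬ Commute a u → Commute b u :=
    fun a ha b hb u hu h1 h2 h3 => hcon a ha b hb u hu h1 h2 h3
  let R : G → G → Prop := fun d d' => d = d' ∨ ¬ Commute d d'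
  have Rsymm : ∀ d d' : G, R d d' → R d' d := fun d d' h =>
    h.imp Eq.symm fun h h' => h h'.symm
  have Rtrans : ∀ a ∈ D, ∀ b ∈ D, ∀ c ∈ D, R a b → R b c → R a c := by
    intro a ha b hb c hc h1 h2
    rcases h1 with rfl | h1
    · exact h2
    rcases h2 with rfl | h2
    · exact Or.inr h1
    by_contra h3
    simp only [R, not_or, not_not] at h3
    exact h2 (edge a ha c hc b hb h3.1 h3.2 h1).symm
  have hstep : ∀ e ∈ D, ∀ d ∈ D, R d (e * d * e⁻¹) := by
    intro e he d hd
    by_cases hc : Commute e d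
    · exact Or.inl (by rw [hc.eq, mul_assoc, mul_inv_cancel, mul_one])
    · by_contra h
      simp only [R, not_or, not_not] at h
      have h1 : Commute (e * d * e⁻¹) e :=
        edge d hd _ (hD.conj e d hd) e he h.1 h.2 fun h' => hc h'.symm
      refine hc ?_
      have h2 : e * d * e⁻¹ * e = e * (e * d * e⁻¹) := h1
      rw [inv_mul_cancel_right, ← mul_assoc, ← mul_assoc, hD.mul_self he, one_mul] at h2
      show e * d = d * e
      rw [h2, hD.inv_eq he]
  have hall : ∀ g : G, ∀ d ∈ D, R d (g * d * g⁻¹) := by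
    intro g
    have hg : g ∈ Subgroup.closure D := hgen.symm ▸ Subgroup.mem_top g
    induction hg using Subgroup.closure_induction with
    | mem e he => exact hstep e he
    | one => intro d _; exact Or.inl (by simp)
    | mul g h _ _ ig ih =>
      intro d hd
      have h1 := ih d hd
      have h2 := ig _ (hD.conj h d hd)
      rw [show g * h * d * (g * h)⁻¹ = g * (h * d * h⁻¹) * g⁻¹ by group]
      exact Rtrans _ hd _ (hD.conj h d hd) _ (hD.conj g _ (hD.conj h d hd)) h1 h2
    | inv g _ ig =>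
      intro d hd
      have h1 := ig _ (hD.conj g⁻¹ d hd)
      rw [show g * (g⁻¹ * d * g⁻¹⁻¹) * g⁻¹ = d by group] at h1
      exact Rsymm _ _ h1
  obtain ⟨x, hx, y, hy, hne, hc⟩ := hpair
  obtain ⟨g, rfl⟩ := htrans x hx y hy
  rcases hall g x hx with h | h
  · exact hne h
  · exact h hc

/-- Commuting is transitive on the members. -/
theorem commute_trans (hD : TwoP D p) (hp : p.Prime) (hp3 : 3 < p) (hgen : Subgroup.closure D = ⊤)
    (htrans : ∀ a ∈ D, ∀ b ∈ D, ∃ g : G, g * a * g⁻¹ = b)
    (hedge : ∀ x ∈ D, ∀ y ∈ D, ∀ y' ∈ D, x ≠ y → Commute x y → x ≠ y' → Commute x y' →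
      ∃ g : G, Commute g x ∧ g * y * g⁻¹ = y')
    (hpair : ∃ x ∈ D, ∃ y ∈ D, x ≠ y ∧ Commute x y) :
    ∀ c ∈ D, ∀ d ∈ D, ∀ z ∈ D, Commute c d → Commute z c → Commute z d := by
  obtain ⟨x, hx, y, hy, u, hu, hne, hxy, hxu, hyu⟩ := exists_bad hD hgen htrans hpair
  have hodd : Odd p := hp.odd_of_ne_two (by omega)
  obtain ⟨hu'ne, huu'⟩ := shift hD hp hp3 hgen hx hy hu hne hxy hxu hyu
  set a := x * y with ha
  set u' := a * u * a⁻¹ with hu'
  have hu'D : u' ∈ D := hD.conj a u hu
  have hai : a⁻¹ = a := pair_inv hD hx hy hxy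
  have haa : a * a = 1 := pair_mul_self hD hx hy hxy
  have hxa : a * x * a⁻¹ = x := by
    rw [show a * x = x * a from (((Commute.refl x).mul_right hxy).eq).symm, mul_assoc, mul_inv_cancel,
      mul_one]
  have hya : a * y * a⁻¹ = y := by
    rw [show a * y = y * a from ((hxy.symm.mul_right (Commute.refl y)).eq).symm, mul_assoc,
      mul_inv_cancel, mul_one]
  have hback : ∀ z : G, a * z * a⁻¹ = z → Commute z u' → Commute z u := fun z hz h => by
    have := h.map (MulAut.conj a).toMonoidHom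
    simp only [MulEquiv.coe_toMonoidHom, MulAut.conj_apply] at this
    rw [hz, show a * u' * a⁻¹ = a * a * u * (a * a)⁻¹ by rw [hu']; group, haa] at this
    simpa using this
  have hxu' : ¬ Commute x u' := fun h => hxu (hback x hxa h)
  have hyu' : ¬ Commute y u' := fun h => hyu (hback y hya h)
  obtain ⟨hx'ne, hxx'⟩ := shift hD hp hp3 hgen hu hu'D hx hu'ne.symm huu' (fun h => hxu h.symm)
    fun h => hxu' h.symm
  obtain ⟨hy'ne, hyy'⟩ := shift hD hp hp3 hgen hu hu'D hy hu'ne.symm huu' (fun h => hyu h.symm)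
    fun h => hyu' h.symm
  set b := u * u' with hb
  have hbi : b⁻¹ = b := pair_inv hD hu hu'D huu'
  have hbb : b * b = 1 := pair_mul_self hD hu hu'D huu'
  have hau : a * u' * a⁻¹ = u := by
    rw [show a * u' * a⁻¹ = a * a * u * (a * a)⁻¹ by rw [hu']; group, haa]; simp
  have hab : a * b * a⁻¹ = b := by
    rw [hb, show a * (u * u') * a⁻¹ = (a * u * a⁻¹) * (a * u' * a⁻¹) by group, hau, ← hu']
    exact huu'.eq.symm
  have hba : b * a * b⁻¹ = a := by
    rw [mul_inv_eq_iff_eq_mul]
    exact (mul_inv_eq_iff_eq_mul.1 hab).symm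
  set x' := b * x * b⁻¹ with hx'
  set y' := b * y * b⁻¹ with hy'
  have hx'D : x' ∈ D := hD.conj b x hx
  have hy'D : y' ∈ D := hD.conj b y hy
  have hx'y' : x' * y' = a := by
    rw [hx', hy', show b * x * b⁻¹ * (b * y * b⁻¹) = b * (x * y) * b⁻¹ by group, ← ha, hba]
  have hcx'y' : Commute x' y' := hxy.map (MulAut.conj b).toMonoidHom
  have hx'y'ne : x' ≠ y' := fun e => hne (by
    rw [hx', hy'] at e; exact mul_left_cancel (mul_right_cancel e))
  by_cases hcase : x' = y
  · -- the two pairs interchange each other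
    exfalso
    have hb0 : b * x * b = y := by rw [← hcase, hx', hbi]
    refine swap_false (a := a) (b := b) (x := x) (u := u) (p := p) haa hbb (hD.mul_self hx) (hD.mul_self hu)
      (mul_inv_eq_iff_eq_mul.1 hab) ?_ ?_ ?_ ?_ ?_ ?_ ?_
    · intro h1
      exact hne (by rw [← hD.inv_eq hy]; exact eq_inv_of_mul_eq_one_left h1)
    · rw [← (hD.pair x hx u hu).resolve_left hxu, pow_orderOf_eq_one]
    · intro h3
      have := (Nat.prime_dvd_prime_iff_eq Nat.prime_three hp).1 h3
      omega
    · rw [show x * a = a * x from ((Commute.refl x).mul_right hxy).eq, mul_assoc, hD.mul_self hx, mul_one]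
    · calc x * b * x = b * b * (x * b * x) := by rw [hbb, one_mul]
        _ = b * (b * x * b) * x := by simp only [mul_assoc]
        _ = b * a := by rw [hb0, ha, hxy.eq, mul_assoc]
    · calc u * a * u = a * a * (u * a * u) := by rw [haa, one_mul]
        _ = a * (a * u * a) * u := by simp only [mul_assoc]
        _ = a * b := by
          rw [show a * u * a = u' by rw [hu', hai], mul_assoc, hb, huu'.eq]
    · rw [hb, ← mul_assoc, hD.mul_self hu, one_mul]; exact huu'.eq.symm
  -- otherwise an edge has equal commuting members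
  have hx'x : x' ≠ x := hx'ne
  have hyx' : Commute y x' := (commute_of_commute_pair hD hodd hgen hx hy hx'D hne hxy
    (by rw [← ha, ← hx'y']; exact (Commute.refl x').mul_left hcx'y'.symm)).2
  have hy'x' : y' ≠ x' := hx'y'ne.symm
  have hax' : a ≠ x' := by
    intro e
    have : y' = 1 := by rwa [e, mul_eq_left] at hx'y'
    exact CfsgLib.Invol.invol_ne_one (hD.invol _ hy'D) this
  have hcover : ∀ z ∈ D, Commute z x' → Commute z x := by
    intro z hz hzx'
    by_cases hzx : z = x'
    · exact hzx ▸ hxx'.symm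
    exact hD.line_commute_mod hp hp3 hx hy hy'D hz (hD.mul_self hx'D) hx'x.symm (Ne.symm hcase) hy'x' hzx
      hxx' hyx' hcx'y'.symm hzx' hxy (by rw [← ha, ← hx'y', hcx'y'.eq])
  -- every pair of commuting members is conjugate to `(x', x)`
  intro c hc d hd z hz hcd hzc
  by_cases hcd' : c = d
  · exact hcd' ▸ hzc
  obtain ⟨g, hg⟩ := htrans x' hx'D c hc
  have hgx : Commute c (g * x * g⁻¹) := by
    rw [← hg]; exact (hxx'.symm).map (MulAut.conj g).toMonoidHom
  have hne1 : c ≠ g * x * g⁻¹ := by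
    rw [← hg]
    intro e
    exact hx'x (mul_left_cancel (mul_right_cancel e))
  obtain ⟨k, hk, hkd⟩ := hedge c hc _ (hD.conj g x hx) d hd hne1 hgx hcd' hcd
  have hk' : (k * g) * x' * (k * g)⁻¹ = c := by
    rw [show (k * g) * x' * (k * g)⁻¹ = k * (g * x' * g⁻¹) * k⁻¹ by group, hg, hk.eq, mul_assoc,
      mul_inv_cancel, mul_one]
  have hd' : (k * g) * x * (k * g)⁻¹ = d := by
    rw [← hkd]; group
  set h := k * g
  have hz' : Commute (h⁻¹ * z * h) x' := by
    have := hzc.map (MulAut.conj h⁻¹).toMonoidHom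
    simp only [MulEquiv.coe_toMonoidHom, MulAut.conj_apply, inv_inv] at this
    rwa [← hk', show h⁻¹ * (h * x' * h⁻¹) * h = x' by group] at this
  have hzD : h⁻¹ * z * h ∈ D := by simpa using hD.conj h⁻¹ z hz
  have := (hcover _ hzD hz').map (MulAut.conj h).toMonoidHom
  simp only [MulEquiv.coe_toMonoidHom, MulAut.conj_apply] at this
  rwa [hd', show h * (h⁻¹ * z * h) * h⁻¹ = z by group] at this

/-- **No such class exists without a solvable radical.** -/
theorem false_of_twoP (hD : TwoP D p) (hp : p.Prime) (hp3 : 3 < p) (hgen : Subgroup.closure D = ⊤)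
    (hsol : ∀ N : Subgroup G, N.Normal → Group.IsSolvable ↥N → N = ⊥)
    (htrans : ∀ a ∈ D, ∀ b ∈ D, ∃ g : G, g * a * g⁻¹ = b)
    (hedge : ∀ x ∈ D, ∀ y ∈ D, ∀ y' ∈ D, x ≠ y → Commute x y → x ≠ y' → Commute x y' →
      ∃ g : G, Commute g x ∧ g * y * g⁻¹ = y')
    (hpair : ∃ x ∈ D, ∃ y ∈ D, x ≠ y ∧ Commute x y) : False := by
  classical
  haveI : Fact (Nat.Prime 2) := ⟨Nat.prime_two⟩
  have ht := commute_trans hD hp hp3 hgen htrans hedge hpair
  -- the elements fixing every class of commuting members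
  have tr : ∀ a ∈ D, ∀ b ∈ D, ∀ c ∈ D, Commute a b → Commute b c → Commute a c :=
    fun a ha b hb c hc h1 h2 => ht b hb c hc a ha h2 h1
  let N : Subgroup G :=
    { carrier := {g | ∀ d ∈ D, Commute (g * d * g⁻¹) d}
      one_mem' := fun d _ => by simp
      mul_mem' := fun {g h} hg hh d hd => by
        rw [show g * h * d * (g * h)⁻¹ = g * (h * d * h⁻¹) * g⁻¹ by group]
        exact tr _ (hD.conj g _ (hD.conj h d hd)) _ (hD.conj h d hd) _ hd (hg _ (hD.conj h d hd)) (hh d hd)
      inv_mem' := fun {g} hg d hd => by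
        have := hg _ (hD.conj g⁻¹ d hd)
        rw [show g * (g⁻¹ * d * g⁻¹⁻¹) * g⁻¹ = d by group] at this
        exact this.symm }
  haveI hNn : N.Normal := ⟨fun n hn g d hd => by
    have := (hn _ (hD.conj g⁻¹ d hd)).map (MulAut.conj g).toMonoidHom
    simp only [MulEquiv.coe_toMonoidHom, MulAut.conj_apply] at this
    rw [show g * (n * (g⁻¹ * d * g⁻¹⁻¹) * n⁻¹) * g⁻¹ = g * n * g⁻¹ * d * (g * n * g⁻¹)⁻¹ by group,
      show g * (g⁻¹ * d * g⁻¹⁻¹) * g⁻¹ = d by group] at this
    exact this⟩
  -- a product of two commuting members fixes every class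
  have hpairN : ∀ d ∈ D, ∀ e ∈ D, Commute d e → d * e ∈ N := by
    intro d hd e he hde
    by_cases hne : d = e
    · subst hne; rw [hD.mul_self hd]; exact one_mem _
    intro f hf
    by_cases hdf : Commute d f
    · have hef : Commute e f := tr _ he _ hd _ hf hde.symm hdf
      rw [(hdf.mul_left hef).eq, mul_assoc, mul_inv_cancel, mul_one]
    · have hef : ¬ Commute e f := fun h => hdf (tr _ hd _ he _ hf hde h)
      exact (shift hD hp hp3 hgen hd he hf hne hde hdf hef).2.symm
  obtain ⟨x, hx, y, hy, hne, hxy⟩ := hpair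
  let S : Set G := {v | ∃ d ∈ D, ∃ e ∈ D, Commute x d ∧ Commute x e ∧ v = d * e}
  have hpc : ∀ d ∈ D, ∀ e ∈ D, Commute x d → Commute x e → Commute d e := fun d hd e he h1 h2 =>
    tr _ hd _ hx _ he h1.symm h2
  set A : Subgroup G := Subgroup.closure S with hA
  have hAN : A ≤ N := (Subgroup.closure_le _).2 fun v ⟨d, hd, e, he, h1, h2, hv⟩ =>
    hv ▸ hpairN d hd e he (hpc d hd e he h1 h2)
  have hcomm : ∀ v ∈ S, ∀ w ∈ S, Commute v w := by
    rintro v ⟨d, hd, e, he, h1, h2, rfl⟩ w ⟨d', hd', e', he', h1', h2', rfl⟩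
    exact ((hpc d hd d' hd' h1 h1').mul_right (hpc d hd e' he' h1 h2')).mul_left
      ((hpc e he d' hd' h2 h1').mul_right (hpc e he e' he' h2 h2'))
  have hAc : ∀ v ∈ A, ∀ w ∈ S, Commute v w := fun v hv w hw => by
    induction hv using Subgroup.closure_induction with
    | mem v hv => exact hcomm v hv w hw
    | one => exact Commute.one_left w
    | mul a b _ _ ia ib => exact ia.mul_left ib
    | inv a _ ia => exact ia.inv_left
  have hAA : ∀ v ∈ A, ∀ w ∈ A, Commute v w := fun v hv w hw => by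
    induction hw using Subgroup.closure_induction with
    | mem w hw => exact hAc v hv w hw
    | one => exact Commute.one_right v
    | mul a b _ _ ia ib => exact ia.mul_right ib
    | inv a _ ia => exact ia.inv_right
  have hA2 : ∀ v ∈ A, v ^ 2 = 1 := fun v hv => by
    induction hv using Subgroup.closure_induction with
    | mem v hv =>
      obtain ⟨d, hd, e, he, h1, h2, rfl⟩ := hv
      exact hD.sq_one hd he (hpc d hd e he h1 h2)
    | one => exact one_pow 2
    | mul a b ha hb ia ib => rw [(hAA a ha b hb).mul_pow, ia, ib, one_mul]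
    | inv a _ ia => rw [inv_pow, ia, inv_one]
  have hnormal : ∀ n ∈ N, ∀ v ∈ A, n * v * n⁻¹ ∈ A := fun n hn v hv => by
    induction hv using Subgroup.closure_induction with
    | mem v hv =>
      obtain ⟨d, hd, e, he, h1, h2, rfl⟩ := hv
      refine Subgroup.subset_closure ⟨_, hD.conj n d hd, _, hD.conj n e he,
        tr _ hx _ hd _ (hD.conj n d hd) h1 (hn d hd).symm, tr _ hx _ he _ (hD.conj n e he) h2 (hn e he).symm, ?_⟩
      group
    | one => simp
    | mul a b _ _ ia ib => rw [show n * (a * b) * n⁻¹ = n * a * n⁻¹ * (n * b * n⁻¹) by group]; exact mul_mem ia ib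
    | inv a _ ia => rw [show n * a⁻¹ * n⁻¹ = (n * a * n⁻¹)⁻¹ by group]; exact inv_mem ia
  haveI : (A.subgroupOf N).Normal := ⟨fun v hv n => hnormal n n.2 v hv⟩
  have hp2 : IsPGroup 2 (A.subgroupOf N) := fun v => ⟨1, Subtype.ext (Subtype.ext (by
    simpa using hA2 _ v.2))⟩
  have hle : A.subgroupOf N ≤ Cfsg.pCore 2 N := CfsgLib.Coprime.le_pCore hp2
  haveI := CfsgLib.Coprime.pCore_characteristic (G := N) 2
  haveI hKn : ((Cfsg.pCore 2 N).map N.subtype).Normal :=
    ConjAct.normal_of_characteristic_of_normal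
  have hKp : IsPGroup 2 ((Cfsg.pCore 2 N).map N.subtype) :=
    (CfsgLib.Coprime.pCore_isPGroup 2).map _
  haveI := hKp.isNilpotent
  have hK := hsol _ hKn inferInstance
  have hxyA : x * y ∈ A := Subgroup.subset_closure ⟨x, hx, y, hy, Commute.refl x, hxy, rfl⟩
  have hmem : x * y ∈ (Cfsg.pCore 2 N).map N.subtype :=
    ⟨⟨x * y, hAN hxyA⟩, hle hxyA, rfl⟩
  rw [hK, Subgroup.mem_bot] at hmem
  exact hne (by rw [← hD.inv_eq hy]; exact eq_inv_of_mul_eq_one_left hmem)

end CfsgLib.RankThreeClass
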