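import Cfsg.Agent.Lib.Perm.OddProductPSL
import Cfsg.Agent.Lib.Lie.Suz.Twisted
import Cfsg.Agent.Lib.Lie.Suz.Sub.Subfield
import Cfsg.Agent.Lib.Lie.SuzSquare.Outer
import Cfsg.Agent.Lib.ModBound.Suzuki
import Cfsg.Agent.Lib.Invol.InvertedOdd

/-!
# Products of two conjugate involutions in the rank one groups and the dihedral groups

`PSL(2, q)`, `q` even, and `Sz(q)` have two different odd orders of such products or an order `3`; in a
dihedral group two members and their product cannot all have odd product with a member.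
-/

set_option autoImplicit false

namespace CfsgLib.RankThreeClass

open Matrix

/-- All involutions are conjugate and some product of two has an order different from `1`, `2`, `p`. -/
def BadPair (Q : Type*) [Group Q] (p : ℕ) : Prop :=
  (∀ a b : Q, orderOf a = 2 → orderOf b = 2 → ∃ c : Q, c * a * c⁻¹ = b) ∧
  ∃ U V : Q, orderOf U = 2 ∧ orderOf V = 2 ∧ orderOf (U * V) ≠ 1 ∧ orderOf (U * V) ≠ 2 ∧
    orderOf (U * V) ≠ p

theorem BadPair.of_equiv {Q Q' : Type*} [Group Q] [Group Q'] (e : Q ≃* Q') {p : ℕ} (h : BadPair Q' p) :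
    BadPair Q p := by
  obtain ⟨hc, U, V, hU, hV, h1, h2, h3⟩ := h
  refine ⟨fun a b ha hb => ?_, e.symm U, e.symm V, by rwa [MulEquiv.orderOf_eq],
    by rwa [MulEquiv.orderOf_eq], ?_, ?_, ?_⟩
  · obtain ⟨c, hc⟩ := hc (e a) (e b) (by rwa [MulEquiv.orderOf_eq]) (by rwa [MulEquiv.orderOf_eq])
    exact ⟨e.symm c, e.injective (by simpa using hc)⟩
  all_goals rw [← map_mul, MulEquiv.orderOf_eq]; assumption

theorem badPair_psl {F : Type*} [Field F] [Fintype F] [CharP F 2] {p : ℕ} (hp : 3 < p) :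
    BadPair (ProjectiveSpecialLinearGroup (Fin 2) F) p := by
  classical
  open CfsgLib.OddProdPSL in
  refine ⟨fun a b ha hb => isConj_iff.1 (isConj_of_invol ha hb), ?_⟩
  have h2 : (1 : F) + 1 = 0 := CharTwo.add_self_eq_zero 1
  let A : SpecialLinearGroup (Fin 2) F := ⟨!![1, 1; 0, 1], by simp [det_fin_two]⟩
  let B : SpecialLinearGroup (Fin 2) F := ⟨!![1, 0; 1, 1], by simp [det_fin_two]⟩
  haveI : Fact (Nat.Prime 2) := ⟨Nat.prime_two⟩
  haveI : Fact (Nat.Prime 3) := ⟨Nat.prime_three⟩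
  have hA : orderOf (CfsgLib.OddProdPSL.proj A) = 2 := by
    refine orderOf_eq_prime ?_ ?_
    · rw [pow_two, ← map_mul, show A * A = 1 from ?_, map_one]
      apply Subtype.ext
      rw [Matrix.SpecialLinearGroup.coe_mul, Matrix.SpecialLinearGroup.coe_one]
      ext i j
      fin_cases i <;> fin_cases j <;> simp [A, mul_apply, Fin.sum_univ_two, h2]
    · rw [ne_eq, CfsgLib.OddProdPSL.proj_eq_one_iff]
      simp [A]
  have hB : orderOf (CfsgLib.OddProdPSL.proj B) = 2 := by
    refine orderOf_eq_prime ?_ ?_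
    · rw [pow_two, ← map_mul, show B * B = 1 from ?_, map_one]
      apply Subtype.ext
      rw [Matrix.SpecialLinearGroup.coe_mul, Matrix.SpecialLinearGroup.coe_one]
      ext i j
      fin_cases i <;> fin_cases j <;> simp [B, mul_apply, Fin.sum_univ_two, h2]
    · rw [ne_eq, CfsgLib.OddProdPSL.proj_eq_one_iff]
      simp [B]
  have hAB : orderOf (CfsgLib.OddProdPSL.proj A * CfsgLib.OddProdPSL.proj B) = 3 := by
    rw [← map_mul]
    refine orderOf_eq_prime ?_ ?_
    · rw [← map_pow, show (A * B) ^ 3 = 1 from ?_, map_one]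
      apply Subtype.ext
      rw [Matrix.SpecialLinearGroup.coe_pow, Matrix.SpecialLinearGroup.coe_mul, Matrix.SpecialLinearGroup.coe_one]
      ext i j
      fin_cases i <;> fin_cases j <;>
        simp [A, B, pow_succ, mul_apply, Fin.sum_univ_two, h2, CharTwo.add_self_eq_zero]
    · rw [ne_eq, CfsgLib.OddProdPSL.proj_eq_one_iff, Matrix.SpecialLinearGroup.coe_mul]
      simp [A, B, mul_apply, Fin.sum_univ_two]
  exact ⟨_, _, hA, hB, by omega, by omega, by omega⟩

theorem badPair_suzuki {Q : Type*} [Group Q] (h : Cfsg.Lie.IsoSuzuki Q) {p : ℕ} (hp : 3 < p) :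
    BadPair Q p := by
  classical
  obtain ⟨F, iF, iF', m, hm, hF, ⟨e⟩⟩ := h
  let e' : Cfsg.Sz F m ≃* Q := ((Subgroup.equivMapOfInjective _ _
    Matrix.SpecialLinearGroup.toGL_injective).trans
    (MulEquiv.subgroupCongr (CfsgLib.Lie.Suz.map_Sz_eq hm hF))).trans e.symm
  refine BadPair.of_equiv e'.symm ⟨fun a b ha hb => CfsgLib.ModBound.sz_invol_conj hm hF ha hb, ?_⟩
  open CfsgLib.Lie.Suz CfsgLib.Lie.SuzSquare in
  have hWT : orderOf (WS hF * TS hF 0 1 : Cfsg.Sz F m) = 5 := orderOf_five hm hF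
  open CfsgLib.Lie.Suz CfsgLib.Lie.SuzSquare in
  have hT : orderOf (TS hF 0 1 : Cfsg.Sz F m) = 2 := orderOf_TS_zero_one hm hF
  have hW2 : (CfsgLib.Lie.Suz.WS hF : Cfsg.Sz F m) * CfsgLib.Lie.Suz.WS hF = 1 :=
    CfsgLib.Lie.Suz.WS_sq hF
  haveI : Fact (Nat.Prime 2) := ⟨Nat.prime_two⟩
  have hW : orderOf (CfsgLib.Lie.Suz.WS hF : Cfsg.Sz F m) = 2 := by
    refine orderOf_eq_prime (by rw [pow_two, hW2]) fun h1 => ?_
    rw [h1, one_mul, hT] at hWT
    omega
  by_cases hp5 : p = 5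
  · obtain ⟨u, hu⟩ := IsCyclic.exists_generator (α := Fˣ)
    let φ : Fˣ →* Cfsg.Sz F m :=
      MonoidHom.mk' (CfsgLib.Lie.Suz.HS hF) fun a b => CfsgLib.Lie.Suz.HS_mul hF a b
    have hH : orderOf (φ u) = 2 ^ (2 * m + 1) - 1 := by
      rw [orderOf_injective φ (CfsgLib.Lie.Suz.HS_injective hF),
        orderOf_eq_card_of_forall_mem_zpowers hu, Nat.card_eq_fintype_card, Fintype.card_units, hF]
    have h7 : 2 ^ 3 ≤ 2 ^ (2 * m + 1) := Nat.pow_le_pow_right two_pos (by omega)
    have hinv : CfsgLib.Lie.Suz.WS hF * φ u * CfsgLib.Lie.Suz.WS hF = (φ u)⁻¹ := by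
      rw [← map_inv]
      exact Subtype.ext (CfsgLib.Lie.Suz.WHW u)
    have hV : orderOf (CfsgLib.Lie.Suz.WS hF * φ u) = 2 := by
      refine orderOf_eq_prime ?_ fun h1 => ?_
      · rw [pow_two, ← mul_assoc, hinv, inv_mul_cancel]
      · have : φ u = CfsgLib.Lie.Suz.WS hF := by
          rw [← inv_eq_of_mul_eq_one_right hW2]; exact eq_inv_of_mul_eq_one_right h1
        rw [this, hW] at hH
        omega
    refine ⟨_, _, hW, hV, ?_⟩
    rw [← mul_assoc, hW2, one_mul, hH]
    omega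
  · exact ⟨_, _, hW, hT, by omega, by omega, by omega⟩

/-- In a dihedral group no three members `a`, `b`, `a * b` have odd product with a member. -/
theorem dihedral_false {n : ℕ} {A B Z : DihedralGroup n} (hA : A * A = 1) (hB : B * B = 1)
    (hC : A * B * (A * B) = 1) (hZ : Z * Z = 1)
    (h1 : Odd (orderOf (A * Z))) (h1' : A * Z ≠ 1)
    (h2 : Odd (orderOf (B * Z))) (h2' : B * Z ≠ 1)
    (h3 : Odd (orderOf (A * B * Z))) (h3' : A * B * Z ≠ 1) : False := by
  have key : ∀ X Y : DihedralGroup n, X * X = 1 → Y * Y = 1 → Odd (orderOf (X * Y)) → X * Y ≠ 1 →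
      ∃ i, X = DihedralGroup.sr i := by
    intro X Y hX hY ho hne
    have hsq : (X * Y) * (X * Y) ≠ 1 := fun h => hne (CfsgLib.Invol.eq_one_of_odd_of_mul_self ho h)
    rcases X with i | i
    · exfalso
      rcases Y with j | j
      · refine hsq ?_
        rw [show DihedralGroup.r i * DihedralGroup.r j * (DihedralGroup.r i * DihedralGroup.r j) =
          DihedralGroup.r i * DihedralGroup.r i * (DihedralGroup.r j * DihedralGroup.r j) by
          simp only [DihedralGroup.r_mul_r]; congr 1; abel, hX, hY, one_mul]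
      · refine hsq ?_
        simp
    · exact ⟨i, rfl⟩
  obtain ⟨i, rfl⟩ := key A Z hA hZ h1 h1'
  obtain ⟨j, rfl⟩ := key B Z hB hZ h2 h2'
  obtain ⟨k, hk⟩ := key _ Z hC hZ h3 h3'
  rw [DihedralGroup.sr_mul_sr] at hk
  simp at hk

end CfsgLib.RankThreeClass
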