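import Cfsg.Agent.Lib.RankThreeClass.Line
import Cfsg.Agent.Lib.RootSub.OddTransp

/-!
# The product of two commuting members moves a member to a commuting one

For commuting members `x`, `y` and a member `u` commuting with neither, the conjugate of `u` by `x * y`
is another member and commutes with `u`.  Two such pairs interchanging each other would force an
element of order dividing the prime to permute three involutions cyclically.
-/

set_option autoImplicit false

namespace CfsgLib.RankThreeClass

open CfsgLib.RootInvol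

universe u

variable {G : Type u} [Group G] {D : Set G} {p : ℕ}

theorem pair_mul_self (hD : TwoP D p) {x y : G} (hx : x ∈ D) (hy : y ∈ D) (h : Commute x y) :
    x * y * (x * y) = 1 := by
  rw [← pow_two]; exact hD.sq_one hx hy h

theorem pair_inv (hD : TwoP D p) {x y : G} (hx : x ∈ D) (hy : y ∈ D) (h : Commute x y) :
    (x * y)⁻¹ = x * y :=
  inv_eq_of_mul_eq_one_right (pair_mul_self hD hx hy h)

/-- A member commuting with a product of two commuting members commutes with both. -/
theorem commute_of_commute_pair [Finite G] (hD : TwoP D p) (hodd : Odd p)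
    (hgen : Subgroup.closure D = ⊤) {x y z : G} (hx : x ∈ D) (hy : y ∈ D) (hz : z ∈ D)
    (hne : x ≠ y) (hxy : Commute x y) (h : Commute (x * y) z) : Commute x z ∧ Commute y z := by
  have hO := hD.isOdd hodd hgen
  have key : ∀ a b : G, a ∈ D → b ∈ D → a ≠ b → Commute a b → Commute (a * b) z → Commute a z := by
    intro a b ha hb hab hc hz'
    by_contra hn
    exact OddTr.not_commute_product hO ha hb hz hab hc (fun e => hn (e ▸ Commute.refl a))
      (hD.odd_or hodd ha hz hn) hz'
  exact ⟨key x y hx hy hne hxy h, key y x hy hx hne.symm hxy.symm (hxy.eq ▸ h)⟩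

/-- **The shift.** -/
theorem shift [Finite G] (hD : TwoP D p) (hp : p.Prime) (hp3 : 3 < p) (hgen : Subgroup.closure D = ⊤)
    {x y u : G} (hx : x ∈ D) (hy : y ∈ D) (hu : u ∈ D) (hne : x ≠ y) (hxy : Commute x y)
    (hxu : ¬ Commute x u) (hyu : ¬ Commute y u) :
    x * y * u * (x * y)⁻¹ ≠ u ∧ Commute u (x * y * u * (x * y)⁻¹) := by
  have hodd : Odd p := hp.odd_of_ne_two (by omega)
  have hO := hD.isOdd hodd hgen
  set a := x * y with ha
  have hne' : a * u * a⁻¹ ≠ u := fun e =>
    hxu (commute_of_commute_pair hD hodd hgen hx hy hu hne hxy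
      (by rw [← ha]; exact mul_inv_eq_iff_eq_mul.1 e)).1
  refine ⟨hne', ?_⟩
  by_contra hnc
  have hu' := hD.conj a u hu
  obtain ⟨w, hw, hwu, owu⟩ := OddTr.exists_middle hO.1 hu hu' (hD.odd_or hodd hu hu' hnc)
  obtain ⟨hxw, hyw⟩ := OddTr.middle_commute hO hx hy hw hne hxy owu hwu
  -- `w` is neither `x` nor `y`
  have hai : a⁻¹ = a := pair_inv hD hx hy hxy
  have hnwx : w ≠ x := by
    rintro rfl
    have e : w * u * w = w * (y * u * y) * w := by
      rw [hwu, hai, ha]
      nth_rewrite 2 [hxy.eq]
      simp only [mul_assoc]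
    have e2 : u = y * u * y := mul_left_cancel (mul_right_cancel e)
    refine hyu ?_
    show y * u = u * y
    nth_rewrite 2 [e2]
    rw [mul_assoc (y * u), hD.mul_self hy, mul_one]
  have hnwy : w ≠ y := by
    rintro rfl
    have e : w * u * w = w * (x * u * x) * w := by
      rw [hwu, hai, ha]
      nth_rewrite 1 [hxy.eq]
      simp only [mul_assoc]
    have e2 : u = x * u * x := mul_left_cancel (mul_right_cancel e)
    refine hxu ?_
    show x * u = u * x
    nth_rewrite 2 [e2]
    rw [mul_assoc (x * u), hD.mul_self hx, mul_one]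
  set s := w * a with hs
  have sw := hD.mul_self hw
  have hwa : Commute w a := hxw.symm.mul_right hyw.symm
  have hss : s * s = 1 := by
    rw [← pow_two, hs, hwa.mul_pow, pow_two, pow_two, sw, one_mul, ha, pair_mul_self hD hx hy hxy]
  have haw : a = w * s := by rw [hs, ← mul_assoc, sw, one_mul]
  have hus : Commute u s := by
    have e : s * u * s⁻¹ = u := by
      rw [hs, show w * a * u * (w * a)⁻¹ = w * (a * u * a⁻¹) * w⁻¹ by group, ← hwu,
        inv_eq_of_mul_eq_one_right sw]
      simp only [mul_assoc, sw, mul_one]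
      rw [← mul_assoc, sw, one_mul]
    exact (mul_inv_eq_iff_eq_mul.1 e).symm
  have cxs : Commute x s := hxw.mul_right ((Commute.refl x).mul_right hxy)
  have cys : Commute y s := hyw.mul_right (hxy.symm.mul_right (Commute.refl y))
  have cws : Commute w s := (Commute.refl w).mul_right hwa
  have hxs : x ≠ s := fun e => hxu (e ▸ hus.symm)
  have hys : y ≠ s := fun e => hyu (e ▸ hus.symm)
  have hus' : u ≠ s := fun e => hxu (e ▸ cxs)
  have hws : w ≠ s := by
    intro e
    refine hne ?_
    have h1 : a = 1 := by rwa [hs, eq_comm, mul_eq_left] at e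
    rw [← hD.inv_eq hy]
    exact eq_inv_of_mul_eq_one_left h1
  exact hxu (hD.line_commute_mod hp hp3 hx hy hw hu hss hxs hys hws hus' cxs cys cws hus hxy haw).symm

/-- **Two pairs interchanging each other.** -/
theorem swap_false {a b x u : G} {p : ℕ} (ha : a * a = 1) (hb : b * b = 1) (hx : x * x = 1)
    (hu : u * u = 1) (hab : Commute a b) (ha1 : a ≠ 1) (hr : (x * u) ^ p = 1) (hp : ¬ 3 ∣ p)
    (hxa : x * a * x = a) (hxb : x * b * x = b * a) (hua : u * a * u = a * b)
    (hub : u * b * u = b) : False := by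
  let φ : MulAut G := MulAut.conj (x * u)
  have e0 : ∀ g : G, φ g = x * (u * g * u) * x := fun g => by
    show x * u * g * (x * u)⁻¹ = _
    rw [mul_inv_rev, inv_eq_of_mul_eq_one_right hx, inv_eq_of_mul_eq_one_right hu]
    simp only [mul_assoc]
  have hmul : ∀ g h : G, x * (g * h) * x = x * g * x * (x * h * x) := fun g h => by
    simp only [mul_assoc]
    rw [← mul_assoc x x, hx, one_mul]
  have e1 : φ b = b * a := by rw [e0, hub, hxb]
  have e2 : φ a = b := by
    rw [e0, hua, hmul, hxa, hxb, hab.symm.eq, ← mul_assoc, ha, one_mul]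
  have e3 : φ (φ (φ b)) = b := by
    rw [e1, map_mul, map_mul, e1, e2, map_mul, e1, e2]
    calc b * a * b * (b * a) = b * a * (b * b) * a := by simp only [mul_assoc]
      _ = b := by rw [hb, mul_one, mul_assoc, ha, mul_one]
  have hφ : φ ^ p = 1 := by
    show MulAut.conj (x * u) ^ p = 1
    rw [← map_pow, hr, map_one]
  have h3 : φ ^ 3 • b = b := by
    show (φ ^ 3) b = b
    exact e3
  have hstab : φ ∈ MulAction.stabilizer (MulAut G) b := by
    have hs3 : φ ^ 3 ∈ MulAction.stabilizer (MulAut G) b := h3
    have hsp : φ ^ p ∈ MulAction.stabilizer (MulAut G) b := by rw [hφ]; exact one_mem _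
    have hg := Nat.gcd_eq_gcd_ab 3 p
    rw [Nat.Coprime.gcd_eq_one ((Nat.Prime.coprime_iff_not_dvd Nat.prime_three).2 hp)] at hg
    have : φ = (φ ^ 3) ^ Nat.gcdA 3 p * (φ ^ p) ^ Nat.gcdB 3 p := by
      rw [← zpow_natCast, ← zpow_natCast, ← zpow_mul, ← zpow_mul, ← zpow_add, ← hg]
      simp
    rw [this]
    exact mul_mem (zpow_mem hs3 _) (zpow_mem hsp _)
  have : b * a = b := e1.symm.trans hstab
  exact ha1 (mul_eq_left.1 this)

end CfsgLib.RankThreeClass
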